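import Groth.Agent.Rosenlicht.Product
import Groth.Agent.DvrDom.ClosedProper

/-!
# A unit on a product which is trivial on the axes is trivial on rational points

Over an algebraically closed field, for connected schemes of finite type.
-/

universe u

open CategoryTheory CategoryTheory.Limits MonoidalCategory CartesianMonoidalCategory AlgebraicGeometry

set_option backward.isDefEq.respectTransparency false
set_option linter.style.haveILetI false
set_option autoImplicit false

namespace Groth.Agent.AxesUnit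

/-- On a connected noetherian Jacobson space, a function on closed points which is constant on the
closed points of each irreducible component is constant. -/
theorem eq_of_forall_component {T : Type*} [TopologicalSpace T] [ConnectedSpace T]
    [TopologicalSpace.NoetherianSpace T] [JacobsonSpace T] {α : Type*} (h : closedPoints T → α)
    (hc : ∀ C ∈ irreducibleComponents T, ∀ x x' : closedPoints T, x.1 ∈ C → x'.1 ∈ C → h x = h x')
    (x x' : closedPoints T) : h x = h x' := by
  let S : Set (Set T) := {C ∈ irreducibleComponents T | ∃ z : closedPoints T, z.1 ∈ C ∧ h z = h x}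
  let S' : Set (Set T) := irreducibleComponents T \ S
  have hfin : (irreducibleComponents T).Finite :=
    TopologicalSpace.NoetherianSpace.finite_irreducibleComponents
  have hA : IsClosed (⋃ C ∈ S, C) := (hfin.subset fun _ hC => hC.1).isClosed_biUnion
    fun C hC => isClosed_of_mem_irreducibleComponents C hC.1
  have hB : IsClosed (⋃ C ∈ S', C) := (hfin.subset fun _ hC => hC.1).isClosed_biUnion
    fun C hC => isClosed_of_mem_irreducibleComponents C hC.1
  have hd : ∀ y : T, y ∈ (⋃ C ∈ S, C) → y ∉ (⋃ C ∈ S', C) := by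
    intro y hyA hyB
    simp only [Set.mem_iUnion] at hyA hyB
    obtain ⟨C, hC, hyC⟩ := hyA
    obtain ⟨C', hC', hyC'⟩ := hyB
    have hne : (C ∩ C').Nonempty := ⟨y, hyC, hyC'⟩
    obtain ⟨w, hwCC, hwc⟩ := nonempty_inter_closedPoints hne
      ((isClosed_of_mem_irreducibleComponents C hC.1).inter
        (isClosed_of_mem_irreducibleComponents C' hC'.1)).isLocallyClosed
    obtain ⟨hCirr, z, hzC, hz⟩ := hC
    exact hC'.2 ⟨hC'.1, ⟨w, hwc⟩, hwCC.2, (hc C hCirr ⟨w, hwc⟩ z hwCC.1 hzC).trans hz⟩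
  have hAo : IsOpen (⋃ C ∈ S, C) := by
    have e : (⋃ C ∈ S, C) = (⋃ C ∈ S', C)ᶜ := by
      refine Set.Subset.antisymm (fun y hy => hd y hy) fun y hy => ?_
      simp only [Set.mem_compl_iff, Set.mem_iUnion, not_exists] at hy ⊢
      refine ⟨irreducibleComponent y, ?_, mem_irreducibleComponent⟩
      by_contra h'
      exact hy _ ⟨irreducibleComponent_mem_irreducibleComponents y, h'⟩ mem_irreducibleComponent
    rw [e]
    exact hB.isOpen_compl
  have hAne : (⋃ C ∈ S, C).Nonempty := by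
    refine ⟨x.1, Set.mem_iUnion₂.2 ⟨irreducibleComponent x.1, ?_, mem_irreducibleComponent⟩⟩
    exact ⟨irreducibleComponent_mem_irreducibleComponents _, x, mem_irreducibleComponent, rfl⟩
  have htop : (⋃ C ∈ S, C) = Set.univ := IsClopen.eq_univ ⟨hA, hAo⟩ hAne
  obtain ⟨C, ⟨hCirr, z, hzC, hz⟩, hxC⟩ := Set.mem_iUnion₂.1 (htop ▸ Set.mem_univ x'.1)
  exact hz.symm.trans (hc C hCirr z x' hzC hxC)

variable {K : Type u} [Field K] [IsAlgClosed K]

/-- A closed point as a rational point. -/
noncomputable def pt (X : Over (Spec (CommRingCat.of K))) [LocallyOfFiniteType X.hom]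
    (x : closedPoints X.left) : 𝟙_ (Over (Spec (CommRingCat.of K))) ⟶ X :=
  Over.homMk (pointOfClosedPoint X.hom x.1 x.2) (pointOfClosedPoint_comp X.hom x.1 x.2)

theorem pt_surjective (X : Over (Spec (CommRingCat.of K))) [LocallyOfFiniteType X.hom] :
    Function.Surjective (pt X) := fun q => by
  refine ⟨pointEquivClosedPoint X.hom ⟨q.left, Over.w q⟩, ?_⟩
  ext : 1
  exact congrArg Subtype.val ((pointEquivClosedPoint X.hom).symm_apply_apply ⟨q.left, Over.w q⟩)

/-- The reduced irreducible component through given closed points. -/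
theorem exists_integral (X : Over (Spec (CommRingCat.of K))) [LocallyOfFiniteType X.hom]
    (C : Set X.left) (hC : C ∈ irreducibleComponents X.left) :
    ∃ (U : Over (Spec (CommRingCat.of K))) (i : U ⟶ X), IsIntegral U.left ∧ LocallyOfFiniteType U.hom ∧
      ∀ x : closedPoints X.left, x.1 ∈ C → ∃ a, a ≫ i = pt X x := by
  let Z : TopologicalSpace.Closeds X.left := ⟨C, isClosed_of_mem_irreducibleComponents C hC⟩
  let ι := (Scheme.IdealSheafData.vanishingIdeal Z).subschemeι
  have hr : Set.range ι = C := DvrDom.range_vanishingIdeal_subschemeι Z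
  have hred := DvrDom.isReduced_vanishingIdeal_subscheme Z
  have : IrreducibleSpace (Scheme.IdealSheafData.vanishingIdeal Z).subscheme := by
    have hgen := hC.1.isGenericPoint_genericPoint (isClosed_of_mem_irreducibleComponents C hC)
    obtain ⟨z, hz⟩ : hC.1.genericPoint ∈ Set.range ι := hr.symm ▸ hgen.mem
    have hd : closure ({z} : Set _) = Set.univ := Set.eq_univ_of_forall fun y => by
      rw [← specializes_iff_mem_closure, ← ι.isClosedEmbedding.isInducing.specializes_iff, hz]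
      exact hgen.specializes (hr ▸ Set.mem_range_self y)
    refine @IrreducibleSpace.mk _ _ ?_ ⟨z⟩
    exact ⟨hd ▸ (isIrreducible_singleton (x := z)).closure.isPreirreducible⟩
  have : IsIntegral (Scheme.IdealSheafData.vanishingIdeal Z).subscheme :=
    isIntegral_of_irreducibleSpace_of_isReduced _
  let U : Over (Spec (CommRingCat.of K)) := Over.mk (ι ≫ X.hom)
  haveI hU : LocallyOfFiniteType U.hom := inferInstanceAs (LocallyOfFiniteType (ι ≫ X.hom))
  refine ⟨U, Over.homMk ι rfl, inferInstanceAs (IsIntegral (Scheme.IdealSheafData.vanishingIdeal Z).subscheme),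
    hU, fun x hx => ?_⟩
  obtain ⟨z, hz⟩ : x.1 ∈ Set.range ι := hr.symm ▸ hx
  have hzc : IsClosed ({z} : Set _) := by
    have h := x.2.preimage ι.continuous
    rwa [← hz, ← Set.image_singleton, Set.preimage_image_eq _ ι.isClosedEmbedding.injective] at h
  refine ⟨pt U ⟨z, hzc⟩, ?_⟩
  ext : 1
  refine ext_of_apply_closedPoint_eq X.hom ?_ (pointOfClosedPoint_comp X.hom x.1 x.2) ?_
  · exact Over.w (pt U ⟨z, hzc⟩ ≫ Over.homMk ι rfl)
  · show ι (pointOfClosedPoint U.hom z hzc (IsLocalRing.closedPoint K)) =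
      pointOfClosedPoint X.hom x.1 x.2 (IsLocalRing.closedPoint K)
    rw [pointOfClosedPoint_apply, pointOfClosedPoint_apply]
    exact hz

variable {X Y : Over (Spec (CommRingCat.of K))}

/-- The value of a unit at a pair of rational points. -/
noncomputable def val (f : Γ((X ⊗ Y).left, ⊤)ˣ) (x : 𝟙_ (Over (Spec (CommRingCat.of K))) ⟶ X)
    (y : 𝟙_ (Over (Spec (CommRingCat.of K))) ⟶ Y) :
    Γ((𝟙_ (Over (Spec (CommRingCat.of K)))).left, ⊤)ˣ :=
  Units.map (lift x y).left.appTop.hom.toMonoidHom f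

theorem val_mul_val {U V : Over (Spec (CommRingCat.of K))} [IsIntegral U.left] [IsIntegral V.left]
    [LocallyOfFiniteType U.hom] [LocallyOfFiniteType V.hom] (i : U ⟶ X) (j : V ⟶ Y)
    (f : Γ((X ⊗ Y).left, ⊤)ˣ) (a a0 : 𝟙_ (Over (Spec (CommRingCat.of K))) ⟶ U)
    (b b0 : 𝟙_ (Over (Spec (CommRingCat.of K))) ⟶ V) :
    val f (a ≫ i) (b ≫ j) * val f (a0 ≫ i) (b0 ≫ j) = val f (a ≫ i) (b0 ≫ j) * val f (a0 ≫ i) (b ≫ j) := by
  let μ : U ⊗ V ⟶ X ⊗ Y := lift (fst U V ≫ i) (snd U V ≫ j)
  have hμ : ∀ (c : 𝟙_ (Over (Spec (CommRingCat.of K))) ⟶ U) d, lift c d ≫ μ = lift (c ≫ i) (d ≫ j) :=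
    fun c d => by simp only [μ, comp_lift, lift_fst_assoc, lift_snd_assoc]
  let g : Γ((U ⊗ V).left, ⊤) := μ.left.appTop (f : Γ((X ⊗ Y).left, ⊤))
  have key := congrArg (fun r => (lift a b).left.appTop r)
    (Rosenlicht.unit_mul_const a0 b0 g (f.isUnit.map μ.left.appTop.hom))
  simp only [map_mul] at key
  have ev : ∀ {W W' : Over (Spec (CommRingCat.of K))} (p : W ⟶ W') (q : W' ⟶ U ⊗ V)
      , p.left.appTop (q.left.appTop g) = (p ≫ q ≫ μ).left.appTop (f : Γ((X ⊗ Y).left, ⊤)) :=
    fun p q => rfl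
  rw [ev, ev, ev] at key
  apply Units.ext
  show (lift (a ≫ i) (b ≫ j)).left.appTop (f : Γ((X ⊗ Y).left, ⊤)) *
      (lift (a0 ≫ i) (b0 ≫ j)).left.appTop (f : Γ((X ⊗ Y).left, ⊤)) =
    (lift (a ≫ i) (b0 ≫ j)).left.appTop (f : Γ((X ⊗ Y).left, ⊤)) *
      (lift (a0 ≫ i) (b ≫ j)).left.appTop (f : Γ((X ⊗ Y).left, ⊤))
  have e0 : lift a b ≫ μ = lift (a ≫ i) (b ≫ j) := hμ a b
  have e1 : lift a b ≫ (toUnit (U ⊗ V) ≫ lift a0 b0) ≫ μ = lift (a0 ≫ i) (b0 ≫ j) := by
    rw [Category.assoc, hμ, ← Category.assoc, toUnit_unique (lift a b ≫ toUnit _) (𝟙 _), Category.id_comp]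
  have e2 : lift a b ≫ lift (fst U V) (toUnit (U ⊗ V) ≫ b0) ≫ μ = lift (a ≫ i) (b0 ≫ j) := by
    rw [← Category.assoc, comp_lift (lift a b) (fst U V), lift_fst, ← Category.assoc (lift a b),
      toUnit_unique (lift a b ≫ toUnit _) (𝟙 _), Category.id_comp, hμ]
  have e3 : lift a b ≫ lift (toUnit (U ⊗ V) ≫ a0) (snd U V) ≫ μ = lift (a0 ≫ i) (b ≫ j) := by
    rw [← Category.assoc, comp_lift (lift a b) (toUnit (U ⊗ V) ≫ a0), lift_snd, ← Category.assoc (lift a b),
      toUnit_unique (lift a b ≫ toUnit _) (𝟙 _), Category.id_comp, hμ]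
  rw [e1, e2, e3] at key
  rw [← e0]
  exact key

variable [LocallyOfFiniteType X.hom] [LocallyOfFiniteType Y.hom] [ConnectedSpace X.left]
  [ConnectedSpace Y.left] [TopologicalSpace.NoetherianSpace X.left] [TopologicalSpace.NoetherianSpace Y.left]

/-- A unit on `X ⊗ Y` trivial on both axes is `1` at every rational point. -/
theorem val_eq_one (f : Γ((X ⊗ Y).left, ⊤)ˣ) (eX : 𝟙_ (Over (Spec (CommRingCat.of K))) ⟶ X)
    (eY : 𝟙_ (Over (Spec (CommRingCat.of K))) ⟶ Y) (hX : ∀ x, val f x eY = 1)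
    (hY : ∀ y, val f eX y = 1) (x : 𝟙_ (Over (Spec (CommRingCat.of K))) ⟶ X)
    (y : 𝟙_ (Over (Spec (CommRingCat.of K))) ⟶ Y) : val f x y = 1 := by
  haveI : JacobsonSpace X.left := LocallyOfFiniteType.jacobsonSpace X.hom
  haveI : JacobsonSpace Y.left := LocallyOfFiniteType.jacobsonSpace Y.hom
  obtain ⟨e, he⟩ := pt_surjective X eX
  obtain ⟨e', he'⟩ := pt_surjective Y eY
  have h1 : ∀ C ∈ irreducibleComponents Y.left, ∀ p q : closedPoints Y.left, p.1 ∈ C → q.1 ∈ C →
      ∀ z, val f (pt X z) (pt Y p) = val f (pt X z) (pt Y q) := by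
    intro C hC p q hp hq z
    obtain ⟨V, j, _, _, hj⟩ := exists_integral Y C hC
    obtain ⟨b, hb⟩ := hj p hp
    obtain ⟨b0, hb0⟩ := hj q hq
    have h := eq_of_forall_component (fun z => val f (pt X z) (pt Y p) / val f (pt X z) (pt Y q))
      (fun D hD z z' hz hz' => by
        obtain ⟨U, i, _, _, hi⟩ := exists_integral X D hD
        obtain ⟨a, ha⟩ := hi z hz
        obtain ⟨a0, ha0⟩ := hi z' hz'
        rw [div_eq_div_iff_mul_eq_mul, ← ha, ← ha0, ← hb, ← hb0, val_mul_val, mul_comm]) z e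
    rwa [he, hY, hY, div_one, div_eq_one] at h
  obtain ⟨z, rfl⟩ := pt_surjective X x
  obtain ⟨w, rfl⟩ := pt_surjective Y y
  rw [eq_of_forall_component (fun w => val f (pt X z) (pt Y w))
    (fun C hC p q hp hq => h1 C hC p q hp hq z) w e', he', hX]

end Groth.Agent.AxesUnit
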